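import Groth.Agent.DerTanLib.GlobHom
import Groth.Agent.OmegaUnivLib.Univ
import Groth.Agent.CurveLib.SmulPow

/-! Homomorphisms out of the pulled back differentials are derivations. -/

set_option autoImplicit false
set_option backward.isDefEq.respectTransparency false
set_option backward.isDefEq.respectTransparency.types false
set_option linter.style.haveILetI false

universe u

open CategoryTheory CategoryTheory.Limits AlgebraicGeometry TopologicalSpace Opposite

noncomputable section

namespace Groth.Agent.DerTanLib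

open Groth.Agent.DCohLib StalkHomLib

variable {X Y S : Scheme.{u}} (f : X ⟶ Y) (y : Y ⟶ S)

/-- Multiplication by a global function on the structure sheaf. -/
def scalarEnd (r : Γ(X, ⊤)) : Coh.structureModule X ⟶ Coh.structureModule X :=
  secHom (Coh.structureModule X) r

theorem scalarEnd_app (r : Γ(X, ⊤)) (U : X.Opens) (a : Γ(X, U)) :
    ((scalarEnd r).app U a : Γ(X, U)) = X.presheaf.map (homOfLE (le_top : U ≤ ⊤)).op r * a := by
  rw [mul_comm]
  refine (congrArg ((scalarEnd r).app U) (show a = a • (1 : Γ(X, U)) from (mul_one a).symm)).trans ?_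
  refine (Scheme.Modules.Hom.app_smul (scalarEnd r) a (1 : Γ(X, U))).trans ?_
  exact congrArg (fun z => a • z) (secHom_app_one (Coh.structureModule X) r U)

variable [QuasiSeparated y]

/-- The pullback of the differentials. -/
abbrev pOmega : X.Modules := (Scheme.Modules.pullback f).obj (Omega.sheaf y)

/-- Derivations from homomorphisms. -/
def derHom (α : pOmega f y ⟶ Coh.structureModule X) :
    OmegaSh.Der y ((Scheme.Modules.pushforward f).obj (Coh.structureModule X)) :=
  OmegaUnivLib.comp (OmegaSh.dOmega y)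
    ((Scheme.Modules.pullbackPushforwardAdjunction f).homEquiv _ _ α)

theorem derHom_add_app (α β : pOmega f y ⟶ Coh.structureModule X) (W : Y.Opens) (b : Γ(Y, W)) :
    ((derHom f y (α + β)).app W b : Γ(X, f ⁻¹ᵁ W)) =
      (show Γ(X, f ⁻¹ᵁ W) from (derHom f y α).app W b) + (show Γ(X, f ⁻¹ᵁ W) from (derHom f y β).app W b) := by
  simp only [derHom, Adjunction.homEquiv_unit, Functor.map_add, Preadditive.comp_add]
  rfl

theorem derHom_bijective : Function.Bijective (derHom f y) := by
  refine ⟨fun α β e => ?_, fun D => ?_⟩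
  · obtain ⟨γ, -, hu⟩ := OmegaUnivLib.isUniversal_dOmega y ((Scheme.Modules.pushforward f).obj (Coh.structureModule X))
      (derHom f y α)
    exact ((Scheme.Modules.pullbackPushforwardAdjunction f).homEquiv _ _).injective
      ((hu _ rfl).trans (hu _ e.symm).symm)
  · obtain ⟨γ, hγ, -⟩ := OmegaUnivLib.isUniversal_dOmega y ((Scheme.Modules.pushforward f).obj (Coh.structureModule X)) D
    refine ⟨((Scheme.Modules.pullbackPushforwardAdjunction f).homEquiv _ _).symm γ, ?_⟩
    show OmegaUnivLib.comp _ _ = D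
    rw [Equiv.apply_symm_apply]
    exact hγ

theorem derHom_comp_app (α : pOmega f y ⟶ Coh.structureModule X) (r : Γ(X, ⊤)) (W : Y.Opens) (b : Γ(Y, W)) :
    ((derHom f y (α ≫ scalarEnd r)).app W b : Γ(X, f ⁻¹ᵁ W)) =
      X.presheaf.map (homOfLE (le_top : f ⁻¹ᵁ W ≤ ⊤)).op r * (show Γ(X, f ⁻¹ᵁ W) from (derHom f y α).app W b) := by
  show (OmegaUnivLib.comp (OmegaSh.dOmega y)
    ((Scheme.Modules.pullbackPushforwardAdjunction f).homEquiv _ _ (α ≫ scalarEnd r))).app W b = _
  rw [Adjunction.homEquiv_naturality_right]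
  exact scalarEnd_app r (f ⁻¹ᵁ W) _

instance isQCoh_pOmega : Coh.IsQCoh (pOmega f y) :=
  haveI := OmegaAffLib.isQCoh_omega y
  PullbackMod.isQCoh_pullback f (Omega.sheaf y)

/-- The two internal Homs agree. -/
def hFIso (F : X.Modules) [DCoh.HasSheafHom F] [ModSite.HasSheafHom (O := X.sheaf) F] :
    (hF F).obj (Coh.structureModule X) ≅ (DCoh.sheafHom F).obj (Coh.structureModule X) :=
  (Adjunction.rightAdjointUniq (ModSite.sheafHomAdj (O := X.sheaf) F)
    ((DCoh.sheafHomAdj F).ofNatIsoLeft (ModTensor.tensorSymm X.sheaf F).symm)).app (Coh.structureModule X)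

variable {k : Type u} [Field k] [X.Over (Spec (CommRingCat.of k))]

/-- Global sections of the dual of the pulled back differentials as derivations. -/
theorem exists_H0_equiv [DCoh.HasSheafHom (pOmega f y)] :
    ∃ e : Coh.HH X ((DCoh.sheafHom (pOmega f y)).obj (Coh.structureModule X)) 0 ≃
        OmegaSh.Der y ((Scheme.Modules.pushforward f).obj (Coh.structureModule X)),
      (∀ u v (W : Y.Opens) (b : Γ(Y, W)), ((e (u + v)).app W b : Γ(X, f ⁻¹ᵁ W)) =
        (show Γ(X, f ⁻¹ᵁ W) from (e u).app W b) + (show Γ(X, f ⁻¹ᵁ W) from (e v).app W b)) ∧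
      ∀ (c : k) v (W : Y.Opens) (b : Γ(Y, W)), ((e (c • v)).app W b : Γ(X, f ⁻¹ᵁ W)) =
        X.presheaf.map (homOfLE (le_top : f ⁻¹ᵁ W ≤ ⊤)).op (Coh.toGlobal (X ↘ Spec (CommRingCat.of k)) c) *
          (show Γ(X, f ⁻¹ᵁ W) from (e v).app W b) := by
  haveI : ModSite.HasSheafHom (O := X.sheaf) (pOmega f y) := TanHilbLib.hasHom _
  let i := hFIso (pOmega f y)
  let τ : Γ((DCoh.sheafHom (pOmega f y)).obj (Coh.structureModule X), ⊤) ≃+
      Γ((hF (pOmega f y)).obj (Coh.structureModule X), ⊤) :=
    CategoryTheory.Iso.addCommGroupIsoToAddEquiv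
      ((Scheme.Modules.toPresheaf X ⋙ (evaluation _ _).obj (op (⊤ : X.Opens))).mapIso i.symm)
  have hτ : ∀ (r : Γ(X, ⊤)) s, τ (r • s) = r • τ s := fun r s => Scheme.Modules.Hom.app_smul i.inv r s
  let e₀ := ((CurveLib.secOf _).trans τ).trans (homEquiv (pOmega f y) (Coh.structureModule X))
  let e := e₀.toEquiv.trans (Equiv.ofBijective (derHom f y) (derHom_bijective f y))
  refine ⟨e, fun u v W b => ?_, fun c v W b => ?_⟩
  · show ((derHom f y (e₀ (u + v))).app W b : Γ(X, f ⁻¹ᵁ W)) = _
    rw [map_add e₀]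
    exact derHom_add_app f y _ _ W b
  have e1 : homEquiv (pOmega f y) (Coh.structureModule X) (τ (CurveLib.secOf _ (c • v))) =
      homEquiv (pOmega f y) (Coh.structureModule X) (τ (CurveLib.secOf _ v)) ≫
        scalarEnd (show Γ(X, ⊤) from Coh.toGlobal (X ↘ Spec (CommRingCat.of k)) c) := by
    rw [CurveLib.secOf_smul, hτ]
    refine Scheme.Modules.hom_ext _ _ fun U => ConcreteCategory.hom_ext _ _ fun m => ?_
    refine (homOf_smul_app _ _ _ _ U m).trans ?_
    exact (scalarEnd_app _ U _).symm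
  show ((derHom f y (homEquiv _ _ (τ (CurveLib.secOf _ (c • v))))).app W b : Γ(X, f ⁻¹ᵁ W)) = _
  rw [e1]
  exact derHom_comp_app f y _ _ W b

end Groth.Agent.DerTanLib
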