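import Groth.Agent.DerTanLib.Der
import Groth.Agent.OmegaUnivLib.Univ

/-! Infinitesimal automorphisms of the trivial first-order deformation are derivations. -/

set_option autoImplicit false
set_option backward.isDefEq.respectTransparency false
set_option backward.isDefEq.respectTransparency.types false
set_option linter.style.haveILetI false

universe u

open CategoryTheory CategoryTheory.Limits AlgebraicGeometry ArtFun ArtFun.Art TopologicalSpace Opposite

noncomputable section

namespace Groth.Agent.DerTanLib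

open LocHilbGlueLib

variable {k : Type u} [Field k] {X : Scheme.{u}} {x : X ⟶ specPt k}

local notation "kε" => dual k k

/-- The endomorphism of the product over the dual numbers defined by an extension of the identity. -/
def selfMap (ψ : Ext1 x x (𝟙 X)) : XA x kε ⟶ XA x kε :=
  pullback.lift ψ.1 (XApr x kε) (ψ.2.2.trans pullback.condition)

theorem selfMap_fst (ψ : Ext1 x x (𝟙 X)) : selfMap ψ ≫ pullback.fst x (specOver kε) = ψ.1 :=
  pullback.lift_fst _ _ _

theorem selfMap_snd (ψ : Ext1 x x (𝟙 X)) : selfMap ψ ≫ XApr x kε = XApr x kε :=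
  pullback.lift_snd _ _ _

theorem XAincl_selfMap (ψ : Ext1 x x (𝟙 X)) : XAincl x kε ≫ selfMap ψ = XAincl x kε := by
  apply pullback.hom_ext
  · rw [Category.assoc, selfMap_fst, ψ.2.1, XAincl_fst]
  · rw [Category.assoc, selfMap_snd]

/-- The extension given by the projection. -/
def projExt : Ext1 x x (𝟙 X) := ⟨pullback.fst x (specOver kε), XAincl_fst x kε, rfl⟩

theorem selfMap_proj : selfMap (projExt (x := x)) = 𝟙 (XA x kε) := by
  apply pullback.hom_ext
  · rw [selfMap_fst, Category.id_comp]; rfl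
  · rw [selfMap_snd, Category.id_comp]

/-- Composition of extensions. -/
def compExt (ψ ψ' : Ext1 x x (𝟙 X)) : Ext1 x x (𝟙 X) :=
  ⟨selfMap ψ ≫ ψ'.1, by rw [← Category.assoc, XAincl_selfMap, ψ'.2.1],
    by rw [Category.assoc, ψ'.2.2, ← Category.assoc, selfMap_fst]; exact ψ.2.2⟩

theorem selfMap_comp (ψ ψ' : Ext1 x x (𝟙 X)) : selfMap (compExt ψ ψ') = selfMap ψ ≫ selfMap ψ' := by
  apply pullback.hom_ext
  · rw [selfMap_fst, Category.assoc, selfMap_fst]; rfl
  · rw [selfMap_snd, Category.assoc, selfMap_snd, selfMap_snd]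

/-- The map on functions of an extension of the identity. -/
def sE (ψ : Ext1 x x (𝟙 X)) (V : X.Opens) : Γ(X, V) ⟶ Γ(XA x kε, UA x kε V) :=
  sect x kε (𝟙 X) ψ.1 ψ.2.1 V

theorem coef_res_sE (ψ : Ext1 x x (𝟙 X)) (V : X.Opens) (b : Γ(X, V)) :
    coef x kε (Art.res kε).toLinearMap V (sE ψ V b) = b :=
  coef_res_sect x kε (𝟙 X) ψ.1 ψ.2.1 V b

/-- The derivation value of an extension of the identity. -/
def dext (ψ : Ext1 x x (𝟙 X)) (V : X.Opens) : Γ(X, V) →+ Γ(X, V) :=
  (coef x kε sndD V).comp (sE ψ V).hom.toAddMonoidHom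

theorem dext_eq (ψ : Ext1 x x (𝟙 X)) (V : X.Opens) (b : Γ(X, V)) :
    dext ψ V b = coef x kε sndD V (sE ψ V b) := rfl

theorem dext_derExt (ψ : Ext1 x x (𝟙 X)) (V : X.Opens) (b : Γ(X, V)) :
    (show Γ(X, V) from (derExt (Category.id_comp x) ψ).app V b) = dext ψ V b := rfl

theorem dext_algR (ψ : Ext1 x x (𝟙 X)) (V : X.Opens) (a : k) (r : Γ(X, V)) :
    dext ψ V (algR x V a * r) = algR x V a * dext ψ V r := by
  let D := derExt (Category.id_comp x) ψ
  have h0 : dext ψ V (algR x V a) = 0 :=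
    OmegaUnivLib.app_appLE D ⊤ V le_top ((Scheme.ΓSpecIso (CommRingCat.of k)).inv a)
  have h1 : dext ψ V (algR x V a * r) = algR x V a * dext ψ V r + r * dext ψ V (algR x V a) :=
    OmegaUnivLib.app_mul D V (algR x V a) r
  rw [h1, h0, mul_zero, add_zero]

theorem coef_selfMap (ψ : Ext1 x x (𝟙 X)) (V : X.Opens)
    (h : UA x kε V ≤ selfMap ψ ⁻¹ᵁ UA x kε V) (s : Γ(XA x kε, UA x kε V)) :
    coef x kε sndD V ((selfMap ψ).appLE (UA x kε V) (UA x kε V) h s) =
      dext ψ V (coef x kε (Art.res kε).toLinearMap V s) + coef x kε sndD V s := by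
  induction s using gen_induction x kε with
  | h0 => simp only [_root_.map_zero, add_zero]
  | hadd s t hs ht => simp only [_root_.map_add, hs, ht]; abel
  | hg r c =>
    have e1 : (selfMap ψ).appLE (UA x kε V) (UA x kε V) h (gen x kε V r c) =
        sE ψ V r * gen x kε V 1 c := by
      rw [gen, gen, _root_.map_mul, _root_.map_one, one_mul]
      congr 1
      · have e : fR x kε V ≫ (selfMap ψ).appLE (UA x kε V) (UA x kε V) h = sE ψ V := by
          simp only [fR, sE, sect, Scheme.Hom.appLE_comp_appLE, selfMap_fst]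
          rfl
        exact congrArg (fun f : Γ(X, V) ⟶ Γ(XA x kε, UA x kε V) => f r) e
      · have e : cmap x kε V ≫ (selfMap ψ).appLE (UA x kε V) (UA x kε V) h = cmap x kε V := by
          simp only [cmap, Category.assoc, Scheme.Hom.appLE_comp_appLE, selfMap_snd]
        exact congrArg (fun f : CommRingCat.of (kε : Art k k) ⟶ Γ(XA x kε, UA x kε V) => f c) e
    rw [e1, coef_mul x kε sndD isDerFun_sndD, coef_gen, coef_gen, coef_gen, coef_gen, dext_algR,
      coef_res_sE, ← dext_eq]
    ring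

theorem dext_comp (ψ ψ' : Ext1 x x (𝟙 X)) (V : X.Opens) (b : Γ(X, V)) :
    dext (compExt ψ ψ') V b = dext ψ V b + dext ψ' V b := by
  have hle : UA x kε V ≤ selfMap ψ ⁻¹ᵁ UA x kε V := by
    show UA x kε V ≤ (selfMap ψ ≫ pullback.fst x (specOver kε)) ⁻¹ᵁ V
    rw [selfMap_fst]
    exact (preimage_eq x kε (𝟙 X) ψ.1 ψ.2.1 V).ge
  have e : sE (compExt ψ ψ') V = sE ψ' V ≫ (selfMap ψ).appLE (UA x kε V) (UA x kε V) hle := by
    simp only [sE, sect]
    exact (Scheme.Hom.appLE_comp_appLE _ _ _ _ _ _ _).symm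
  rw [dext_eq (compExt ψ ψ'), e]
  show coef x kε sndD V ((selfMap ψ).appLE (UA x kε V) (UA x kε V) hle (sE ψ' V b)) = _
  rw [coef_selfMap, coef_res_sE, ← dext_eq]

variable (x) [QuasiSeparated x]

theorem exists_hom (ψ : Ext1 x x (𝟙 X)) :
    ∃! α : Omega.sheaf x ⟶ Coh.structureModule X, ∀ (V : X.Opens) (b : Γ(X, V)),
      (show Γ(X, V) from (OmegaUnivLib.comp (OmegaSh.dOmega x) α).app V b) = dext ψ V b := by
  let D := derExt (Category.id_comp x) ψ
  let D' : OmegaSh.Der x (Coh.structureModule X) := OmegaUnivLib.mkDer (F := Coh.structureModule X) (dext ψ)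
    (fun U a b => OmegaUnivLib.app_mul D U a b)
    (fun i b => OmegaUnivLib.app_res D i b)
    (fun V c => D.d_app (X := op V) c)
  obtain ⟨α, hα, hu⟩ := OmegaUnivLib.isUniversal_dOmega x (Coh.structureModule X) D'
  refine ⟨α, fun V b => congrArg (fun E : OmegaSh.Der x (Coh.structureModule X) => E.app V b) hα,
    fun β hβ => hu β (OmegaUnivLib.der_ext fun V b => hβ V b)⟩

/-- The homomorphism out of the differentials of an extension of the identity. -/
def homOfExt (ψ : Ext1 x x (𝟙 X)) : Omega.sheaf x ⟶ Coh.structureModule X :=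
  (exists_hom x ψ).exists.choose

theorem homOfExt_app (ψ : Ext1 x x (𝟙 X)) (V : X.Opens) (b : Γ(X, V)) :
    (show Γ(X, V) from (OmegaUnivLib.comp (OmegaSh.dOmega x) (homOfExt x ψ)).app V b) = dext ψ V b :=
  (exists_hom x ψ).exists.choose_spec V b

theorem homOfExt_comp (ψ ψ' : Ext1 x x (𝟙 X)) :
    homOfExt x (compExt ψ ψ') = homOfExt x ψ + homOfExt x ψ' := by
  refine (exists_hom x (compExt ψ ψ')).unique (homOfExt_app x _) fun V b => ?_
  rw [dext_comp, ← homOfExt_app, ← homOfExt_app]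
  rfl

theorem homOfExt_bijective : Function.Bijective (homOfExt x) := by
  refine ⟨fun ψ ψ' e => derExt_injective (Category.id_comp x) (OmegaUnivLib.der_ext fun V b => ?_), fun α => ?_⟩
  · show dext ψ V b = dext ψ' V b
    rw [← homOfExt_app, ← homOfExt_app, e]
  · let D := OmegaUnivLib.comp (OmegaSh.dOmega x) α
    let D' : OmegaSh.Der x ((Scheme.Modules.pushforward (𝟙 X)).obj (Coh.structureModule X)) :=
      OmegaUnivLib.mkDer (F := (Scheme.Modules.pushforward (𝟙 X)).obj (Coh.structureModule X))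
        (fun U => D.app U) (fun U a b => OmegaUnivLib.app_mul D U a b)
        (fun i b => OmegaUnivLib.app_res D i b) (fun V c => D.d_app (X := op V) c)
    obtain ⟨ψ, hψ⟩ := (derExt_bijective (Category.id_comp x)).2 D'
    refine ⟨ψ, (exists_hom x ψ).unique (homOfExt_app x ψ) fun V b => ?_⟩
    exact (congrArg (fun E : OmegaSh.Der x ((Scheme.Modules.pushforward (𝟙 X)).obj (Coh.structureModule X)) =>
      E.app V b) hψ).symm

theorem homOfExt_proj : homOfExt x (projExt (x := x)) = 0 := by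
  have h := homOfExt_comp x (projExt (x := x)) (projExt (x := x))
  have h1 : compExt (projExt (x := x)) (projExt (x := x)) = projExt := by
    refine Subtype.ext ?_
    show selfMap projExt ≫ _ = _
    rw [selfMap_proj, Category.id_comp]
  rw [h1] at h
  exact left_eq_add.mp h

/-- The extension of an automorphism. -/
def extOfAut (φ : {φ : XA x kε ≅ XA x kε // φ.hom ≫ XApr x kε = XApr x kε ∧ XAincl x kε ≫ φ.hom = XAincl x kε}) :
    Ext1 x x (𝟙 X) :=
  ⟨φ.1.hom ≫ pullback.fst x (specOver kε), by rw [← Category.assoc, φ.2.2, XAincl_fst], by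
    rw [Category.assoc, pullback.condition, ← Category.assoc, φ.2.1]⟩

omit [QuasiSeparated x] in
theorem selfMap_extOfAut
    (φ : {φ : XA x kε ≅ XA x kε // φ.hom ≫ XApr x kε = XApr x kε ∧ XAincl x kε ≫ φ.hom = XAincl x kε}) :
    selfMap (extOfAut x φ) = φ.1.hom := by
  apply pullback.hom_ext
  · rw [selfMap_fst]; rfl
  · rw [selfMap_snd, φ.2.1]

theorem exists_aut_equiv :
    ∃ e : {φ : XA x kε ≅ XA x kε // φ.hom ≫ XApr x kε = XApr x kε ∧ XAincl x kε ≫ φ.hom = XAincl x kε} ≃
        (Omega.sheaf x ⟶ Coh.structureModule X),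
      ∀ φ ψ χ, φ.1.hom ≫ ψ.1.hom = χ.1.hom → e χ = e φ + e ψ := by
  have hb : Function.Bijective (fun φ => homOfExt x (extOfAut x φ)) := by
    refine ⟨fun φ φ' e => Subtype.ext (CategoryTheory.Iso.ext ?_), fun α => ?_⟩
    · rw [← selfMap_extOfAut x φ, ← selfMap_extOfAut x φ', (homOfExt_bijective x).1 e]
    · obtain ⟨ψ, rfl⟩ := (homOfExt_bijective x).2 α
      obtain ⟨ψ', hψ'⟩ := (homOfExt_bijective x).2 (-homOfExt x ψ)
      have h1 : compExt ψ ψ' = projExt := (homOfExt_bijective x).1 (by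
        rw [homOfExt_comp, hψ', add_neg_cancel, homOfExt_proj])
      have h2 : compExt ψ' ψ = projExt := (homOfExt_bijective x).1 (by
        rw [homOfExt_comp, hψ', neg_add_cancel, homOfExt_proj])
      exact ⟨⟨⟨selfMap ψ, selfMap ψ', by rw [← selfMap_comp, h1, selfMap_proj],
        by rw [← selfMap_comp, h2, selfMap_proj]⟩, selfMap_snd ψ, XAincl_selfMap ψ⟩,
        congrArg (homOfExt x) (Subtype.ext (selfMap_fst ψ))⟩
  refine ⟨Equiv.ofBijective _ hb, fun φ ψ χ h => ?_⟩
  show homOfExt x (extOfAut x χ) = homOfExt x (extOfAut x φ) + homOfExt x (extOfAut x ψ)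
  rw [← homOfExt_comp]
  congr 1
  refine Subtype.ext ?_
  show χ.1.hom ≫ _ = selfMap (extOfAut x φ) ≫ ψ.1.hom ≫ _
  rw [selfMap_extOfAut, ← Category.assoc, h]

end Groth.Agent.DerTanLib
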