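import Mathlib
import Groth.Agent.LocHilbGlueLib.Scheme

/-! Functions on `X ×_k Spec C` in coordinates, on arbitrary opens. -/

set_option autoImplicit false
set_option backward.isDefEq.respectTransparency false
set_option backward.isDefEq.respectTransparency.types false
set_option linter.style.haveILetI false

universe u

open CategoryTheory CategoryTheory.Limits AlgebraicGeometry ArtFun ArtFun.Art TopologicalSpace Opposite
open scoped TensorProduct

noncomputable section

namespace Groth.Agent.DerTanLib

open LocHilbGlueLib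

variable {k : Type u} [Field k] {X : Scheme.{u}} (x : X ⟶ specPt k)

theorem algR_res {V V' : X.Opens} (h : V' ≤ V) (c : k) :
    X.presheaf.map (homOfLE h).op (algR x V c) = algR x V' c := by
  have e : algR x V ≫ X.presheaf.map (homOfLE h).op = algR x V' := by simp [algR, Scheme.Hom.appLE_map]
  exact congrArg (fun f : CommRingCat.of k ⟶ Γ(X, V') => f c) e

section

variable (C : Art k k)

theorem UA_mono {V V' : X.Opens} (h : V' ≤ V) : UA x C V' ≤ UA x C V :=
  (pullback.fst x (specOver C)).preimage_mono h

theorem algR_fR (V : X.Opens) (a : k) : fR x C V (algR x V a) = cmap x C V (algebraMap k C a) := by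
  have e : algR x V ≫ fR x C V = CommRingCat.ofHom (algebraMap k C) ≫ cmap x C V := by
    have h0 : CommRingCat.ofHom (algebraMap k C) = CommRingCat.ofHom (ofBase C).toAlgHom.toRingHom :=
      CommRingCat.hom_ext (RingHom.ext fun c => ((ofBase C).toAlgHom.commutes c).symm)
    rw [h0]
    simp only [cmap, algR, fR, Category.assoc]
    rw [← Category.assoc (CommRingCat.ofHom _), Scheme.ΓSpecIso_inv_naturality, Category.assoc]
    congr 1
    rw [Scheme.Hom.appTop, Scheme.Hom.app_eq_appLE, Scheme.Hom.appLE_comp_appLE]
    erw [Scheme.Hom.appLE_comp_appLE]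
    simp only [pullback.condition]
  exact congrArg (fun f : CommRingCat.of k ⟶ Γ(XA x C, UA x C V) => f a) e

/-- A function on `X` times a coefficient. -/
def gen (V : X.Opens) (r : Γ(X, V)) (c : C) : Γ(XA x C, UA x C V) := fR x C V r * cmap x C V c

theorem gen_add_left (V : X.Opens) (r r' : Γ(X, V)) (c : C) :
    gen x C V (r + r') c = gen x C V r c + gen x C V r' c := by
  rw [gen, map_add, add_mul]; rfl

theorem gen_add_right (V : X.Opens) (r : Γ(X, V)) (c c' : C) :
    gen x C V r (c + c') = gen x C V r c + gen x C V r c' := by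
  rw [gen, map_add, mul_add]; rfl

theorem gen_zero_right (V : X.Opens) (r : Γ(X, V)) : gen x C V r 0 = 0 := by rw [gen, map_zero, mul_zero]

theorem gen_zero_left (V : X.Opens) (c : C) : gen x C V 0 c = 0 := by rw [gen, map_zero, zero_mul]

theorem gen_smul (V : X.Opens) (r : Γ(X, V)) (a : k) (c : C) :
    gen x C V r (a • c) = gen x C V (algR x V a * r) c := by
  rw [gen, gen, Algebra.smul_def, map_mul, map_mul, algR_fR, ← mul_assoc, mul_comm (fR x C V r)]

theorem gen_mul (V : X.Opens) (r r' : Γ(X, V)) (c c' : C) :
    gen x C V r c * gen x C V r' c' = gen x C V (r * r') (c * c') := by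
  rw [gen, gen, gen, map_mul, map_mul]; ring

theorem gen_res {V V' : X.Opens} (h : V' ≤ V) (r : Γ(X, V)) (c : C) :
    (XA x C).presheaf.map (homOfLE (UA_mono x C h)).op (gen x C V r c) =
      gen x C V' (X.presheaf.map (homOfLE h).op r) c := by
  rw [gen, gen, map_mul]
  congr 1
  · have e : fR x C V ≫ (XA x C).presheaf.map (homOfLE (UA_mono x C h)).op =
        X.presheaf.map (homOfLE h).op ≫ fR x C V' := by
      simp [fR, Scheme.Hom.appLE_map, Scheme.Hom.map_appLE]
    exact congrArg (fun f : Γ(X, V) ⟶ Γ(XA x C, UA x C V') => f r) e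
  · have e : cmap x C V ≫ (XA x C).presheaf.map (homOfLE (UA_mono x C h)).op = cmap x C V' := by
      simp [cmap, Scheme.Hom.appLE_map]
    exact congrArg (fun f : CommRingCat.of C ⟶ Γ(XA x C, UA x C V') => f c) e

variable [Module.Finite k C]

/-- The chosen basis of the coefficients. -/
def bas : Module.Basis (Fin (Module.finrank k C)) k C := Module.finBasis k C

/-- Functions from coordinates. -/
def phiB (V : X.Opens) : (Fin (Module.finrank k C) → Γ(X, V)) →+ Γ(XA x C, UA x C V) where
  toFun a := ∑ j, gen x C V (a j) (bas C j)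
  map_zero' := Finset.sum_eq_zero fun j _ => gen_zero_left x C V _
  map_add' a a' := by
    rw [← Finset.sum_add_distrib]
    exact Finset.sum_congr rfl fun j _ => gen_add_left x C V _ _ _

theorem phiB_res {V V' : X.Opens} (h : V' ≤ V) (a : Fin (Module.finrank k C) → Γ(X, V)) :
    (XA x C).presheaf.map (homOfLE (UA_mono x C h)).op (phiB x C V a) =
      phiB x C V' (fun j => X.presheaf.map (homOfLE h).op (a j)) := by
  show (XA x C).presheaf.map _ (∑ j, gen x C V (a j) (bas C j)) = _
  rw [map_sum]
  exact Finset.sum_congr rfl fun j _ => gen_res x C h _ _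

theorem phiB_bijective_affine {V : X.Opens} (hV : IsAffineOpen V) : Function.Bijective (phiB x C V) := by
  classical
  letI := algV x V
  let e : (C ⊗[k] Γ(X, V)) ≃ (Fin (Module.finrank k C) → Γ(X, V)) :=
    (TensorProduct.equivFinsuppOfBasisLeft (bas C)).toEquiv.trans Finsupp.equivFunOnFinite
  have h : (phiB x C V : _ → _) = (theta x C hV).hom ∘ e.symm := by
    funext a
    have he : e.symm a = ∑ j, bas C j ⊗ₜ[k] a j := by
      show (TensorProduct.equivFinsuppOfBasisLeft (bas C)).symm (Finsupp.equivFunOnFinite.symm a) = _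
      rw [TensorProduct.equivFinsuppOfBasisLeft_symm_apply, Finsupp.sum_fintype _ _ fun j => TensorProduct.tmul_zero _ _]
      rfl
    show ∑ j, gen x C V (a j) (bas C j) = theta x C hV (e.symm a)
    rw [he, map_sum]
    refine Finset.sum_congr rfl fun j _ => ?_
    have e1 : (bas C j) ⊗ₜ[k] a j =
        (Algebra.TensorProduct.includeLeftRingHom : C →+* C ⊗[k] Γ(X, V)) (bas C j) *
          (Algebra.TensorProduct.includeRight : Γ(X, V) →ₐ[k] C ⊗[k] Γ(X, V)) (a j) := by simp
    rw [e1, map_mul]
    have el := congrArg (fun f : CommRingCat.of C ⟶ Γ(XA x C, UA x C V) => f (bas C j)) (theta_left x C hV)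
    have er := congrArg (fun f : Γ(X, V) ⟶ Γ(XA x C, UA x C V) => f (a j)) (theta_right x C hV)
    rw [gen, mul_comm]
    exact congrArg₂ (· * ·) el.symm er.symm
  rw [h]
  exact (theta_bijective x C hV).comp e.symm.bijective

theorem exists_affine_cover (V : X.Opens) :
    ∃ (ι : Type u) (W : ι → X.Opens), (∀ i, IsAffineOpen (W i) ∧ W i ≤ V) ∧ V ≤ iSup W :=
  ⟨{W : X.Opens // IsAffineOpen W ∧ W ≤ V}, Subtype.val, fun i => i.2, fun p hp => by
    obtain ⟨W, hW, hpW, hWV⟩ := Opens.isBasis_iff_nbhd.mp X.isBasis_affineOpens hp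
    exact Opens.mem_iSup.mpr ⟨⟨W, hW, hWV⟩, hpW⟩⟩

theorem phiB_injective (V : X.Opens) : Function.Injective (phiB x C V) := by
  intro a b hab
  obtain ⟨ι, W, hW, hcov⟩ := exists_affine_cover V
  funext j
  refine TopCat.Sheaf.eq_of_locally_eq' X.sheaf W V (fun i => homOfLE (hW i).2) hcov _ _ fun i => ?_
  have h1 := phiB_res x C (hW i).2 a
  rw [hab, phiB_res] at h1
  exact (congrFun ((phiB_bijective_affine x C (hW i).1).1 h1) j).symm

theorem phiB_surjective (V : X.Opens) : Function.Surjective (phiB x C V) := by
  intro s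
  obtain ⟨ι, W, hW, hcov⟩ := exists_affine_cover V
  choose a ha using fun i => (phiB_bijective_affine x C (hW i).1).2
    ((XA x C).presheaf.map (homOfLE (UA_mono x C (hW i).2)).op s)
  have hcomp : ∀ j, TopCat.Presheaf.IsCompatible X.sheaf.1 W (fun i => a i j) := by
    intro j i i'
    have h1 := phiB_res x C (inf_le_left : W i ⊓ W i' ≤ W i) (a i)
    have h2 := phiB_res x C (inf_le_right : W i ⊓ W i' ≤ W i') (a i')
    rw [ha] at h1 h2
    rw [← CategoryTheory.comp_apply, ← Functor.map_comp] at h1 h2
    have h3 := congrFun (phiB_injective x C _ (h1.symm.trans h2)) j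
    exact h3
  choose g hg hguniq using fun j => TopCat.Sheaf.existsUnique_gluing' X.sheaf W V (fun i => homOfLE (hW i).2) hcov
    (fun i => a i j) (hcomp j)
  refine ⟨g, TopCat.Sheaf.eq_of_locally_eq' (XA x C).sheaf (fun i => UA x C (W i)) (UA x C V)
    (fun i => homOfLE (UA_mono x C (hW i).2)) (fun p hp => ?_) _ _ fun i => ?_⟩
  · obtain ⟨i, hi⟩ := Opens.mem_iSup.mp (hcov (show (pullback.fst x (specOver C)) p ∈ V from hp))
    exact Opens.mem_iSup.mpr ⟨i, hi⟩
  · refine (phiB_res x C (hW i).2 g).trans ?_
    rw [show (fun j => X.presheaf.map (homOfLE (hW i).2).op (g j)) = a i from funext fun j => hg j i]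
    exact ha i

theorem phiB_bijective (V : X.Opens) : Function.Bijective (phiB x C V) :=
  ⟨phiB_injective x C V, phiB_surjective x C V⟩

theorem gen_induction {V : X.Opens} {P : Γ(XA x C, UA x C V) → Prop} (h0 : P 0)
    (hg : ∀ r c, P (gen x C V r c)) (hadd : ∀ s t, P s → P t → P (s + t)) (s : Γ(XA x C, UA x C V)) : P s := by
  obtain ⟨a, rfl⟩ := phiB_surjective x C V s
  show P (∑ j, gen x C V (a j) (bas C j))
  exact Finset.sum_induction (fun j => gen x C V (a j) (bas C j)) P (fun s t => hadd s t) h0 fun j _ => hg _ _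

/-- The coefficient of a function along a functional. -/
def coef (l : C →ₗ[k] k) (V : X.Opens) : Γ(XA x C, UA x C V) →+ Γ(X, V) :=
  (AddMonoidHom.mk' (fun a : Fin (Module.finrank k C) → Γ(X, V) => ∑ j, algR x V (l (bas C j)) * a j)
      (fun a b => by simp [mul_add, Finset.sum_add_distrib])).comp
    (AddEquiv.ofBijective (phiB x C V) (phiB_bijective x C V)).symm.toAddMonoidHom

theorem coef_gen (l : C →ₗ[k] k) (V : X.Opens) (r : Γ(X, V)) (c : C) :
    coef x C l V (gen x C V r c) = algR x V (l c) * r := by
  let a : Fin (Module.finrank k C) → Γ(X, V) := fun j => algR x V ((bas C).repr c j) * r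
  have h1 : phiB x C V a = gen x C V r c := by
    show ∑ j, gen x C V (a j) (bas C j) = _
    conv_rhs => rw [← (bas C).sum_repr c]
    rw [Finset.sum_congr rfl fun j _ => (gen_smul x C V r ((bas C).repr c j) (bas C j)).symm]
    exact (map_sum (AddMonoidHom.mk' (gen x C V r) (gen_add_right x C V r)) _ _).symm
  rw [← h1]
  show ∑ j, algR x V (l (bas C j)) * ((AddEquiv.ofBijective (phiB x C V) _).symm (phiB x C V a)) j = _
  rw [show (AddEquiv.ofBijective (phiB x C V) (phiB_bijective x C V)).symm (phiB x C V a) = a from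
    (AddEquiv.ofBijective (phiB x C V) (phiB_bijective x C V)).symm_apply_apply a]
  show ∑ j, algR x V (l (bas C j)) * (algR x V ((bas C).repr c j) * r) = _
  conv_rhs => rw [← (bas C).sum_repr c, map_sum, map_sum, Finset.sum_mul]
  refine Finset.sum_congr rfl fun j _ => ?_
  rw [map_smul, smul_eq_mul, map_mul]
  ring

theorem coef_res (l : C →ₗ[k] k) {V V' : X.Opens} (h : V' ≤ V) (s : Γ(XA x C, UA x C V)) :
    coef x C l V' ((XA x C).presheaf.map (homOfLE (UA_mono x C h)).op s) =
      X.presheaf.map (homOfLE h).op (coef x C l V s) := by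
  induction s using gen_induction x C with
  | h0 => simp only [map_zero]
  | hg r c => rw [gen_res, coef_gen, coef_gen, map_mul, algR_res]
  | hadd s t hs ht => simp only [map_add, hs, ht]

theorem coef_add (l l' : C →ₗ[k] k) (V : X.Opens) (s : Γ(XA x C, UA x C V)) :
    coef x C (l + l') V s = coef x C l V s + coef x C l' V s := by
  induction s using gen_induction x C with
  | h0 => simp only [map_zero, add_zero]
  | hg r c => rw [coef_gen, coef_gen, coef_gen, LinearMap.add_apply, map_add, add_mul]
  | hadd s t hs ht => simp only [map_add, hs, ht]; abel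

theorem coef_smul (a : k) (l : C →ₗ[k] k) (V : X.Opens) (s : Γ(XA x C, UA x C V)) :
    coef x C (a • l) V s = algR x V a * coef x C l V s := by
  induction s using gen_induction x C with
  | h0 => simp only [map_zero, mul_zero]
  | hg r c => rw [coef_gen, coef_gen, LinearMap.smul_apply, smul_eq_mul, map_mul, mul_assoc]
  | hadd s t hs ht => simp only [map_add, hs, ht, mul_add]

theorem coef_mul (l : C →ₗ[k] k) (hl : ∀ c d, l (c * d) = C.res c * l d + C.res d * l c) (V : X.Opens)
    (s t : Γ(XA x C, UA x C V)) :
    coef x C l V (s * t) = coef x C C.res.toLinearMap V s * coef x C l V t +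
      coef x C C.res.toLinearMap V t * coef x C l V s := by
  induction s using gen_induction x C with
  | h0 => simp only [zero_mul, map_zero, mul_zero, add_zero]
  | hadd s s' hs hs' => simp only [add_mul, map_add, hs, hs', mul_add]; abel
  | hg r c =>
    induction t using gen_induction x C with
    | h0 => simp only [mul_zero, map_zero, zero_mul, add_zero]
    | hadd t t' ht ht' => simp only [mul_add, map_add, ht, ht', add_mul]; abel
    | hg r' d =>
      rw [gen_mul, coef_gen, coef_gen, coef_gen, coef_gen, coef_gen, hl, map_add, map_mul, map_mul]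
      simp only [AlgHom.toLinearMap_apply]
      ring

theorem eq_of_coef {V : X.Opens} {s t : Γ(XA x C, UA x C V)} (h : ∀ l, coef x C l V s = coef x C l V t) :
    s = t := by
  classical
  obtain ⟨a, rfl⟩ := phiB_surjective x C V s
  obtain ⟨b, rfl⟩ := phiB_surjective x C V t
  congr 1
  funext i
  have key : ∀ a : Fin (Module.finrank k C) → Γ(X, V), coef x C ((bas C).coord i) V (phiB x C V a) = a i := by
    intro a
    show coef x C _ V (∑ j, gen x C V (a j) (bas C j)) = _
    rw [map_sum, Finset.sum_eq_single i]
    · rw [coef_gen, Module.Basis.coord_apply, Module.Basis.repr_self, Finsupp.single_eq_same, map_one, one_mul]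
    · intro j _ hj
      rw [coef_gen, Module.Basis.coord_apply, Module.Basis.repr_self, Finsupp.single_eq_of_ne hj.symm, map_zero,
        zero_mul]
    · exact fun hi => absurd (Finset.mem_univ i) hi
  rw [← key a, ← key b]
  exact h _

theorem coef_res_eq (V : X.Opens) (h : V ≤ XAincl x C ⁻¹ᵁ UA x C V) (s : Γ(XA x C, UA x C V)) :
    (XAincl x C).appLE (UA x C V) V h s = coef x C C.res.toLinearMap V s := by
  induction s using gen_induction x C with
  | h0 => simp only [map_zero]
  | hadd s t hs ht => simp only [map_add, hs, ht]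
  | hg r c =>
    rw [coef_gen, gen, map_mul, mul_comm (algR x V _)]
    congr 1
    · have e : fR x C V ≫ (XAincl x C).appLE (UA x C V) V h = 𝟙 _ := by
        rw [fR, Scheme.Hom.appLE_comp_appLE]
        have key : ∀ (g : X ⟶ X) (e : V ≤ g ⁻¹ᵁ V), g = 𝟙 X → g.appLE V V e = 𝟙 _ := by
          rintro g e rfl
          simp [Scheme.Hom.appLE]
          exact X.presheaf.map_id _
        exact key _ _ (XAincl_fst x C)
      exact congrArg (fun f : Γ(X, V) ⟶ Γ(X, V) => f r) e
    · have e : cmap x C V ≫ (XAincl x C).appLE (UA x C V) V h = CommRingCat.ofHom C.res.toRingHom ≫ algR x V := by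
        simp only [cmap, algR, Category.assoc, Scheme.Hom.appLE_comp_appLE]
        rw [← Category.assoc (CommRingCat.ofHom _), Scheme.ΓSpecIso_inv_naturality, Category.assoc]
        congr 1
        rw [Scheme.Hom.appTop, Scheme.Hom.app_eq_appLE]
        erw [Scheme.Hom.appLE_comp_appLE]
        simp only [XAincl_snd]
      exact congrArg (fun f : CommRingCat.of C ⟶ Γ(X, V) => f c) e

end

theorem coef_sres {A B : Art k k} [Module.Finite k A] [Module.Finite k B] (g : A ⟶ B) (l : B →ₗ[k] k) (V : X.Opens)
    (s : Γ(XA x A, UA x A V)) :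
    coef x B l V (sres x g V s) = coef x A (l.comp g.toAlgHom.toLinearMap) V s := by
  induction s using gen_induction x A with
  | h0 => simp only [map_zero]
  | hadd s t hs ht => simp only [map_add, hs, ht]
  | hg r c =>
    have e1 : sres x g V (gen x A V r c) = gen x B V r (g.toAlgHom c) := by
      rw [gen, gen, map_mul]
      congr 1
      · have e : fR x A V ≫ sres x g V = fR x B V := by
          simp only [fR, sres, Scheme.Hom.appLE_comp_appLE, XAmap_fst]
        exact congrArg (fun f : Γ(X, V) ⟶ Γ(XA x B, UA x B V) => f r) e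
      · have e : cmap x A V ≫ sres x g V = CommRingCat.ofHom g.toAlgHom.toRingHom ≫ cmap x B V := by
          simp only [cmap, sres, Category.assoc, Scheme.Hom.appLE_comp_appLE]
          rw [← Category.assoc (CommRingCat.ofHom _), Scheme.ΓSpecIso_inv_naturality, Category.assoc]
          congr 1
          rw [Scheme.Hom.appTop, Scheme.Hom.app_eq_appLE]
          erw [Scheme.Hom.appLE_comp_appLE]
          simp only [XAmap_snd]
        exact congrArg (fun f : CommRingCat.of A ⟶ Γ(XA x B, UA x B V) => f c) e
    rw [e1, coef_gen, coef_gen]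
    rfl

end Groth.Agent.DerTanLib
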