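import Groth.Agent.DerTanLib.Morph
import Groth.Agent.OmegaUnivLib.Basic

/-! Morphisms out of a first-order thickening and derivations. -/

set_option autoImplicit false
set_option backward.isDefEq.respectTransparency false
set_option backward.isDefEq.respectTransparency.types false
set_option linter.style.haveILetI false

universe u

open CategoryTheory CategoryTheory.Limits AlgebraicGeometry ArtFun ArtFun.Art TopologicalSpace Opposite

noncomputable section

namespace Groth.Agent.DerTanLib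

open LocHilbGlueLib

variable {k : Type u} [Field k] {X : Scheme.{u}} {x : X ⟶ specPt k}
  {Y : Scheme.{u}} {y : Y ⟶ specPt k} {f : X ⟶ Y} (hf : f ≫ y = x)

/-- A functional on the coefficients behaving like a derivation at the closed point. -/
def IsDerFun (C : Art k k) (l : C →ₗ[k] k) : Prop := ∀ c d, l (c * d) = C.res c * l d + C.res d * l c

theorem IsDerFun.map_one {C : Art k k} {l : C →ₗ[k] k} (hl : IsDerFun C l) : l 1 = 0 := by
  have h := hl 1 1
  simp only [_root_.map_one, one_mul] at h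
  exact left_eq_add.mp h

theorem IsDerFun.comp {A B : Art k k} (g : A ⟶ B) {l : B →ₗ[k] k} (hl : IsDerFun B l) :
    IsDerFun A (l.comp g.toAlgHom.toLinearMap) := fun c d => by
  show l (g.toAlgHom (c * d)) = A.res c * l (g.toAlgHom d) + A.res d * l (g.toAlgHom c)
  rw [_root_.map_mul, hl, ← AlgHom.comp_apply, g.res_comp, ← AlgHom.comp_apply, g.res_comp]

variable {C : Art k k} (φ : XA x C ⟶ Y) (hφ : XAincl x C ≫ φ = f) (hφy : φ ≫ y = pullback.fst x (specOver C) ≫ x)

include hf hφy in
theorem sect_app (V : (specPt k).Opens) (a : Γ(specPt k, V)) :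
    sect x C f φ hφ (y ⁻¹ᵁ V) (y.app V a) =
      gen x C (f ⁻¹ᵁ y ⁻¹ᵁ V) (f.app (y ⁻¹ᵁ V) (y.app V a)) 1 := by
  have e : y.app V ≫ sect x C f φ hφ (y ⁻¹ᵁ V) =
      (y.app V ≫ f.app (y ⁻¹ᵁ V)) ≫ fR x C (f ⁻¹ᵁ y ⁻¹ᵁ V) := by
    subst hf
    simp only [sect, fR, Scheme.Hom.app_eq_appLE, Scheme.Hom.appLE_comp_appLE]
    simp only [hφy]
  rw [gen, _root_.map_one, mul_one]
  exact congrArg (fun g : Γ(specPt k, V) ⟶ Γ(XA x C, UA x C (f ⁻¹ᵁ y ⁻¹ᵁ V)) => g a) e

variable [Module.Finite k C] (l : C →ₗ[k] k) (hl : IsDerFun C l)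

/-- The derivation of a morphism along a functional. -/
def derOf : OmegaSh.Der y ((Scheme.Modules.pushforward f).obj (Coh.structureModule X)) :=
  OmegaUnivLib.mkDer (F := (Scheme.Modules.pushforward f).obj (Coh.structureModule X))
    (fun W => (coef x C l (f ⁻¹ᵁ W)).comp (sect x C f φ hφ W).hom.toAddMonoidHom)
    (fun W a b => by
      show coef x C l (f ⁻¹ᵁ W) (sect x C f φ hφ W (a * b)) =
        f.app W a * coef x C l (f ⁻¹ᵁ W) (sect x C f φ hφ W b) + f.app W b * coef x C l (f ⁻¹ᵁ W) (sect x C f φ hφ W a)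
      rw [_root_.map_mul, coef_mul x C l hl, coef_res_sect, coef_res_sect])
    (fun {W W'} i b => by
      show coef x C l (f ⁻¹ᵁ W) (sect x C f φ hφ W (Y.presheaf.map i.op b)) =
        X.presheaf.map (homOfLE (f.preimage_mono i.le)).op (coef x C l (f ⁻¹ᵁ W') (sect x C f φ hφ W' b))
      rw [← coef_res x C l (f.preimage_mono i.le), sect_res x C f φ hφ i.le]
      rfl)
    (fun V a => by
      show coef x C l (f ⁻¹ᵁ y ⁻¹ᵁ V) (sect x C f φ hφ (y ⁻¹ᵁ V) (y.app V a)) = 0
      rw [sect_app hf φ hφ hφy, coef_gen, hl.map_one, _root_.map_zero, zero_mul])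

theorem derOf_app (W : Y.Opens) (b : Γ(Y, W)) :
    ((derOf hf φ hφ hφy l hl).app W b : Γ(X, f ⁻¹ᵁ W)) = coef x C l (f ⁻¹ᵁ W) (sect x C f φ hφ W b) :=
  rfl

theorem derOf_congr (ψ : XA x C ⟶ Y) (e : ψ = φ) (hψ : XAincl x C ≫ ψ = f)
    (hψy : ψ ≫ y = pullback.fst x (specOver C) ≫ x) :
    derOf hf ψ hψ hψy l hl = derOf hf φ hφ hφy l hl := by subst e; rfl

theorem derOf_map {B : Art k k} [Module.Finite k B] (g : C ⟶ B) (l' : B →ₗ[k] k) (hl' : IsDerFun B l')
    (hψ : XAincl x B ≫ XAmap x g ≫ φ = f) (hψy : (XAmap x g ≫ φ) ≫ y = pullback.fst x (specOver B) ≫ x)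
    (W : Y.Opens) (b : Γ(Y, W)) :
    (derOf hf (XAmap x g ≫ φ) hψ hψy l' hl').app W b = (derOf hf φ hφ hφy _ (hl'.comp g)).app W b := by
  show coef x B l' _ (sect x B f (XAmap x g ≫ φ) hψ W b) = coef x C _ _ (sect x C f φ hφ W b)
  have e : sect x B f (XAmap x g ≫ φ) hψ W = sect x C f φ hφ W ≫ sres x g (f ⁻¹ᵁ W) := by
    simp only [sect, sres, Scheme.Hom.appLE_comp_appLE]
  rw [e]
  exact coef_sres x g l' (f ⁻¹ᵁ W) _

section Dual

/-- The `ε`-coefficient. -/
def sndD : (dual k k).carrier →ₗ[k] k where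
  toFun a := TrivSqZeroExt.snd (R := k) (M := k) a
  map_add' _ _ := rfl
  map_smul' _ _ := rfl

theorem isDerFun_sndD : IsDerFun (dual k k) sndD := fun c d => by
  show TrivSqZeroExt.snd (R := k) (M := k) ((c : DualNumber k) * d) = _
  rw [DualNumber.snd_mul]
  show TrivSqZeroExt.fst (R := k) (M := k) c * TrivSqZeroExt.snd (R := k) (M := k) d + _ = _ + _ * _
  rw [mul_comm (TrivSqZeroExt.snd (R := k) (M := k) c)]
  rfl

instance finite_dual : Module.Finite k (dual k k).carrier :=
  inferInstanceAs (Module.Finite k (k × k))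

instance finite_dual2 : Module.Finite k (dual2 k k).carrier :=
  inferInstanceAs (Module.Finite k (k × (k × k)))

theorem dual_functional (l : (dual k k).carrier →ₗ[k] k) (c : DualNumber k) :
    l c = TrivSqZeroExt.fst c * l (1 : DualNumber k) + TrivSqZeroExt.snd c * l DualNumber.eps := by
  have h : (c : (dual k k).carrier) =
      TrivSqZeroExt.fst c • (1 : DualNumber k) + TrivSqZeroExt.snd c • (DualNumber.eps : DualNumber k) :=
    TrivSqZeroExt.ext (by simp) (by simp)
  conv_lhs => rw [h]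
  exact (l.map_add _ _).trans (congrArg₂ (· + ·) (l.map_smul _ _) (l.map_smul _ _))

theorem dual_eq_of_coef {V : X.Opens} {s t : Γ(XA x (dual k k), UA x (dual k k) V)}
    (h0 : coef x (dual k k) (dual k k).res.toLinearMap V s = coef x (dual k k) (dual k k).res.toLinearMap V t)
    (h1 : coef x (dual k k) sndD V s = coef x (dual k k) sndD V t) : s = t := by
  refine eq_of_coef x (dual k k) fun l => ?_
  have hl : l = l (1 : DualNumber k) • (dual k k).res.toLinearMap + l (DualNumber.eps : DualNumber k) • sndD :=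
    LinearMap.ext fun c => (dual_functional l c).trans (by
      show _ = l (1 : DualNumber k) * TrivSqZeroExt.fst (R := k) (M := k) c +
        l (DualNumber.eps : DualNumber k) * TrivSqZeroExt.snd (R := k) (M := k) c
      ring)
  rw [hl, coef_add, coef_add, coef_smul, coef_smul, coef_smul, coef_smul, h0, h1]

/-- Extensions of `f` over the dual numbers. -/
def Ext1 (x : X ⟶ specPt k) (y : Y ⟶ specPt k) (f : X ⟶ Y) : Type u :=
  {φ : XA x (dual k k) ⟶ Y // XAincl x (dual k k) ≫ φ = f ∧ φ ≫ y = pullback.fst x (specOver (dual k k)) ≫ x}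

/-- The derivation of an extension over the dual numbers. -/
def derExt (φ : Ext1 x y f) : OmegaSh.Der y ((Scheme.Modules.pushforward f).obj (Coh.structureModule X)) :=
  derOf hf φ.1 φ.2.1 φ.2.2 sndD isDerFun_sndD

theorem derExt_injective : Function.Injective (derExt hf (x := x) (y := y) (f := f)) := by
  intro φ ψ h
  refine Subtype.ext (hom_ext_sect x (dual k k) f φ.1 φ.2.1 ψ.2.1 fun W => CommRingCat.hom_ext (RingHom.ext fun b => ?_))
  refine dual_eq_of_coef ?_ ?_
  · show coef x _ _ _ (sect x (dual k k) f φ.1 φ.2.1 W b) = coef x _ _ _ (sect x (dual k k) f ψ.1 ψ.2.1 W b)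
    rw [coef_res_sect, coef_res_sect]
  · exact congrArg (fun D : OmegaSh.Der y ((Scheme.Modules.pushforward f).obj (Coh.structureModule X)) => D.app W b) h

variable (D : OmegaSh.Der y ((Scheme.Modules.pushforward f).obj (Coh.structureModule X)))

/-- The value of a derivation as a function. -/
def dval (W : Y.Opens) (b : Γ(Y, W)) : Γ(X, f ⁻¹ᵁ W) := D.app W b

theorem dval_add (W : Y.Opens) (a b : Γ(Y, W)) : dval D W (a + b) = dval D W a + dval D W b :=
  map_add (D.app W) a b

theorem dval_mul (W : Y.Opens) (a b : Γ(Y, W)) :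
    dval D W (a * b) = f.app W a * dval D W b + f.app W b * dval D W a :=
  OmegaUnivLib.app_mul D W a b

theorem dval_one (W : Y.Opens) : dval D W 1 = 0 := OmegaUnivLib.app_one D W

/-- The map on functions with a given derivation. -/
def cOf (W : Y.Opens) : Γ(Y, W) →+* Γ(XA x (dual k k), UA x (dual k k) (f ⁻¹ᵁ W)) where
  toFun b := gen x (dual k k) (f ⁻¹ᵁ W) (f.app W b) 1 +
    gen x (dual k k) (f ⁻¹ᵁ W) (dval D W b) (DualNumber.eps : DualNumber k)
  map_one' := by
    rw [dval_one, gen_zero_left, add_zero, _root_.map_one, gen, _root_.map_one, _root_.map_one, one_mul]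
  map_mul' a b := by
    have he : ((DualNumber.eps : DualNumber k) : (dual k k).carrier) * (DualNumber.eps : DualNumber k) = 0 :=
      DualNumber.eps_mul_eps
    rw [add_mul, mul_add, mul_add, gen_mul, gen_mul, gen_mul, gen_mul, he, gen_zero_right, add_zero, one_mul,
      one_mul, mul_one, dval_mul, gen_add_left, _root_.map_mul, mul_comm (dval D W a)]
    abel
  map_zero' := by
    rw [show dval D W 0 = 0 from map_zero (D.app W), gen_zero_left, _root_.map_zero, gen_zero_left, add_zero]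
  map_add' a b := by
    rw [_root_.map_add, dval_add, gen_add_left, gen_add_left]
    abel

theorem cOf_res {W W' : Y.Opens} (h : W' ≤ W) (b : Γ(Y, W)) :
    (XA x (dual k k)).presheaf.map (homOfLE (UA_mono x (dual k k) (f.preimage_mono h))).op (cOf (x := x) D W b) =
      cOf (x := x) D W' (Y.presheaf.map (homOfLE h).op b) := by
  refine (_root_.map_add _ _ _).trans ?_
  rw [gen_res x (dual k k) (f.preimage_mono h), gen_res x (dual k k) (f.preimage_mono h)]
  have e1 : X.presheaf.map (homOfLE (f.preimage_mono h)).op (f.app W b) = f.app W' (Y.presheaf.map (homOfLE h).op b) :=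
    (congrArg (fun g : Γ(Y, W) ⟶ Γ(X, f ⁻¹ᵁ W') => g b) (f.naturality (homOfLE h).op)).symm
  have e2 : X.presheaf.map (homOfLE (f.preimage_mono h)).op (dval D W b) = dval D W' (Y.presheaf.map (homOfLE h).op b) :=
    (OmegaUnivLib.app_res D (homOfLE h) b).symm
  rw [e1, e2]
  rfl

theorem coef_cOf (l : (dual k k).carrier →ₗ[k] k) (W : Y.Opens) (b : Γ(Y, W)) :
    coef x (dual k k) l (f ⁻¹ᵁ W) (cOf (x := x) D W b) =
      algR x _ (l (1 : DualNumber k)) * f.app W b + algR x _ (l (DualNumber.eps : DualNumber k)) * dval D W b := by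
  refine (_root_.map_add _ _ _).trans ?_
  rw [coef_gen, coef_gen]

theorem coef_res_cOf (W : Y.Opens) (b : Γ(Y, W)) :
    coef x (dual k k) (dual k k).res.toLinearMap (f ⁻¹ᵁ W) (cOf (x := x) D W b) = f.app W b := by
  rw [coef_cOf]
  show algR x _ (TrivSqZeroExt.fst (1 : DualNumber k)) * _ + algR x _ (TrivSqZeroExt.fst (DualNumber.eps : DualNumber k)) * _ = _
  rw [TrivSqZeroExt.fst_one, DualNumber.fst_eps, _root_.map_one, _root_.map_zero, one_mul, zero_mul, add_zero]

include hf in
theorem derExt_surjective : Function.Surjective (derExt hf (x := x) (y := y) (f := f)) := by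
  intro D
  let φ := mkHom x (dual k k) f (cOf (x := x) D) (fun h b => cOf_res D h b) (coef_res_cOf D)
  have hφ : XAincl x (dual k k) ≫ φ = f := XAincl_mkHom _ _ _ _ _ _
  have hs : ∀ W b, sect x (dual k k) f φ hφ W b = cOf (x := x) D W b := fun W b =>
    RingHom.congr_fun (sect_mkHom x (dual k k) f (cOf (x := x) D) (fun h b => cOf_res D h b) (coef_res_cOf D) W) b
  have h1 : XAincl x (dual k k) ≫ φ ≫ y = x := by rw [← Category.assoc, hφ, hf]
  have h2 : XAincl x (dual k k) ≫ pullback.fst x (specOver (dual k k)) ≫ x = x := by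
    rw [← Category.assoc, XAincl_fst, Category.id_comp]
  have hφy : φ ≫ y = pullback.fst x (specOver (dual k k)) ≫ x := by
    refine hom_ext_sect x (dual k k) x (φ ≫ y) h1 h2 fun V => CommRingCat.hom_ext (RingHom.ext fun a => ?_)
    subst hf
    have e1 : sect (f ≫ y) (dual k k) (f ≫ y) (φ ≫ y) h1 V = y.app V ≫ sect (f ≫ y) (dual k k) f φ hφ (y ⁻¹ᵁ V) := by
      simp only [sect, Scheme.Hom.app_eq_appLE, Scheme.Hom.appLE_comp_appLE]
      rfl
    have e2 : sect (f ≫ y) (dual k k) (f ≫ y) (pullback.fst (f ≫ y) (specOver (dual k k)) ≫ f ≫ y) h2 V =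
        (f ≫ y).app V ≫ fR (f ≫ y) (dual k k) ((f ≫ y) ⁻¹ᵁ V) := by
      simp only [sect, fR, Scheme.Hom.app_eq_appLE, Scheme.Hom.appLE_comp_appLE]
    rw [e1, e2]
    refine (hs _ _).trans ?_
    show gen _ _ _ (f.app (y ⁻¹ᵁ V) (y.app V a)) 1 + gen _ _ _ (dval D _ (y.app V a)) _ = _
    rw [show dval D (y ⁻¹ᵁ V) (y.app V a) = 0 from D.d_app (X := op V) a, gen_zero_left, add_zero, gen,
      _root_.map_one, mul_one]
    rfl
  refine ⟨⟨φ, hφ, hφy⟩, OmegaUnivLib.der_ext fun W b => ?_⟩
  show coef x (dual k k) sndD (f ⁻¹ᵁ W) (sect x (dual k k) f φ hφ W b) = D.app W b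
  rw [hs, coef_cOf]
  show algR x _ (TrivSqZeroExt.snd (1 : DualNumber k)) * _ + algR x _ (TrivSqZeroExt.snd (DualNumber.eps : DualNumber k)) * _ = _
  rw [TrivSqZeroExt.snd_one, DualNumber.snd_eps, _root_.map_one, _root_.map_zero, zero_mul, zero_add, one_mul]
  rfl

include hf in
theorem derExt_bijective : Function.Bijective (derExt hf (x := x) (y := y) (f := f)) :=
  ⟨derExt_injective hf, derExt_surjective hf⟩

end Dual

end Groth.Agent.DerTanLib
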