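import Groth.Agent.TanHilbLib.Sect
import Groth.Agent.DCohLib.Restrict

/-! Global sections of the internal Hom are homomorphisms. -/

set_option autoImplicit false
set_option backward.isDefEq.respectTransparency false
set_option backward.isDefEq.respectTransparency.types false
set_option linter.style.haveILetI false

universe u

open CategoryTheory CategoryTheory.Limits AlgebraicGeometry TopologicalSpace Opposite

noncomputable section

namespace Groth.Agent.DerTanLib

open Groth.Agent.DCohLib Groth.Agent.PullbackMod StalkHomLib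

variable {X : Scheme.{u}} (F : X.Modules) [ModSite.HasSheafHom (O := X.sheaf) F] (N : X.Modules)

/-- Restriction of a global section of the internal Hom. -/
def resG (U : X.Opens) (s : Γ((hF F).obj N, ⊤)) : Γ((hF F).obj N, U) :=
  ((hF F).obj N).presheaf.map (homOfLE (le_top : U ≤ ⊤)).op s

theorem resG_res {U V : X.Opens} (h : V ≤ U) (s : Γ((hF F).obj N, ⊤)) :
    ((hF F).obj N).presheaf.map (homOfLE h).op (resG F N U s) = resG F N V s := by
  rw [resG, ← CategoryTheory.comp_apply, ← Functor.map_comp]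
  rfl

theorem evS_resG_natural {U V : X.Opens} (i : U ⟶ V) (s : Γ((hF F).obj N, ⊤)) (m : Γ(F, V)) :
    evS F N (resG F N U s) (F.presheaf.map i.op m) = N.presheaf.map i.op (evS F N (resG F N V s) m) := by
  rw [show i = homOfLE i.le from Subsingleton.elim _ _, evS_res, resG_res]

/-- The homomorphism given by a global section. -/
def homOf (s : Γ((hF F).obj N, ⊤)) : F ⟶ N :=
  ⟨PresheafOfModules.homMk (M₁ := F.val) (M₂ := N.val)
    { app := fun U => AddCommGrpCat.ofHom
        (AddMonoidHom.mk' (fun m : Γ(F, U.unop) => evS F N (resG F N U.unop s) m) (evS_add_right F N _))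
      naturality := fun U V i => AddCommGrpCat.hom_ext (AddMonoidHom.ext fun m => evS_resG_natural F N i.unop s m) }
    fun U r m => evS_smul_right F N r _ m⟩

theorem homOf_app (s : Γ((hF F).obj N, ⊤)) (U : X.Opens) (m : Γ(F, U)) :
    (homOf F N s).app U m = evS F N (resG F N U s) m := rfl

theorem homOf_add (s t : Γ((hF F).obj N, ⊤)) : homOf F N (s + t) = homOf F N s + homOf F N t := by
  refine Scheme.Modules.hom_ext _ _ fun U => ConcreteCategory.hom_ext _ _ fun m => ?_
  show evS F N (resG F N U (s + t)) m = evS F N (resG F N U s) m + evS F N (resG F N U t) m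
  rw [resG, resG, resG, map_add]
  exact evS_add_left F N _ _ _

theorem homOf_smul_app (r : Γ(X, ⊤)) (s : Γ((hF F).obj N, ⊤)) (U : X.Opens) (m : Γ(F, U)) :
    (homOf F N (r • s)).app U m =
      X.presheaf.map (homOfLE (le_top : U ≤ ⊤)).op r • (homOf F N s).app U m := by
  rw [homOf_app, homOf_app, resG, Scheme.Modules.map_smul]
  exact evS_smul_left F N _ _ _

variable [Coh.IsQCoh F]

theorem exists_cover (U : X.Opens) :
    ∃ (ι : Type u) (W : ι → X.Opens), (∀ i, IsAffineOpen (W i) ∧ W i ≤ U) ∧ U ≤ iSup W :=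
  ⟨{W : X.Opens // IsAffineOpen W ∧ W ≤ U}, Subtype.val, fun i => i.2, fun p hp => by
    obtain ⟨W, hW, hpW, hWV⟩ := Opens.isBasis_iff_nbhd.mp X.isBasis_affineOpens hp
    exact Opens.mem_iSup.mpr ⟨⟨W, hW, hWV⟩, hpW⟩⟩

omit [Coh.IsQCoh F] in
/-- A section of the internal Hom inducing a given homomorphism. -/
def Rep (α : F ⟶ N) {U : X.Opens} (h : Γ((hF F).obj N, U)) : Prop :=
  ∀ (V : X.Opens) (hV : V ≤ U) (m : Γ(F, V)), evS F N (((hF F).obj N).presheaf.map (homOfLE hV).op h) m = α.app V m

theorem rep_unique (α : F ⟶ N) {U : X.Opens} {h h' : Γ((hF F).obj N, U)} (e : Rep F N α h) (e' : Rep F N α h') :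
    h = h' := by
  obtain ⟨ι, W, hW, hcov⟩ := exists_cover U
  refine TopCat.Sheaf.eq_of_locally_eq' (⟨((hF F).obj N).presheaf, ((hF F).obj N).isSheaf⟩ : TopCat.Sheaf Ab.{u} X.carrier)
    W U (fun i => homOfLE (hW i).2) hcov _ _ fun i => ?_
  exact psi_injective F N (hW i).1 (LinearMap.ext fun m => (e _ (hW i).2 m).trans (e' _ (hW i).2 m).symm)

theorem exists_rep (α : F ⟶ N) {U : X.Opens} (hU : IsAffineOpen U) : ∃ h : Γ((hF F).obj N, U), Rep F N α h := by
  let L : Γ(F, U) →ₗ[Γ(X, U)] Γ(N, U) :=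
    { toFun := α.app U
      map_add' := map_add _
      map_smul' := fun r m => Scheme.Modules.Hom.app_smul α r m }
  obtain ⟨h, hh⟩ := psi_surjective F N hU L
  refine ⟨h, fun V hV m => ?_⟩
  refine TopCat.Presheaf.section_ext ⟨N.presheaf, N.isSheaf⟩ V _ _ fun y hy => ?_
  obtain ⟨u, m', hu, hum⟩ := exists_localGen F hU (hV hy) (F.presheaf.germ V y hy m)
  show N.presheaf.germ V y hy (evS F N _ m) = N.presheaf.germ V y hy (α.app V m)
  refine (theta_germ F N hy _ m).symm.trans ?_
  rw [← stalkLin_germ α y hy m]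
  apply hu.smul_left_cancel.1
  rw [← (theta F N y _).map_smul, ← (stalkLin α y).map_smul, hum,
    ← TopCat.Presheaf.germ_res_apply F.presheaf (homOfLE hV) y hy m', theta_germ, stalkLin_germ]
  refine congrArg _ ?_
  rw [app_natural α hV]
  exact (evS_res F N hV h m').symm.trans
    (congrArg _ (show evS F N h m' = L m' from LinearMap.congr_fun hh m'))

theorem homOf_injective : Function.Injective (homOf F N) := fun s t e => by
  have hs : ∀ u, Rep F N (homOf F N u) u := fun u V hV m => rfl
  exact rep_unique F N (homOf F N s) (hs s) (e ▸ hs t)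

theorem homOf_surjective : Function.Surjective (homOf F N) := by
  intro α
  obtain ⟨ι, W, hW, hcov⟩ := exists_cover (⊤ : X.Opens)
  choose h hh using fun i => exists_rep F N α (hW i).1
  let G : TopCat.Sheaf Ab.{u} X.carrier := ⟨((hF F).obj N).presheaf, ((hF F).obj N).isSheaf⟩
  have hres : ∀ (i : ι) (U : X.Opens) (hU : U ≤ W i),
      Rep F N α (((hF F).obj N).presheaf.map (homOfLE hU).op (h i)) := fun i U hU V hV m => by
    rw [← CategoryTheory.comp_apply, ← Functor.map_comp]
    exact hh i V (hV.trans hU) m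
  have hcomp : TopCat.Presheaf.IsCompatible G.1 W h := fun i j =>
    rep_unique F N α (hres i (W i ⊓ W j) inf_le_left) (hres j (W i ⊓ W j) inf_le_right)
  obtain ⟨s, hs, -⟩ := TopCat.Sheaf.existsUnique_gluing' G W ⊤ (fun i => homOfLE le_top) hcov h hcomp
  refine ⟨s, Scheme.Modules.hom_ext _ _ fun U => ConcreteCategory.hom_ext _ _ fun m => ?_⟩
  refine TopCat.Sheaf.eq_of_locally_eq' (⟨N.presheaf, N.isSheaf⟩ : TopCat.Sheaf Ab.{u} X.carrier)
    (fun i => U ⊓ W i) U (fun i => homOfLE inf_le_left) (fun p hp => ?_) _ _ fun i => ?_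
  · obtain ⟨i, hi⟩ := Opens.mem_iSup.mp (hcov (Opens.mem_top p))
    exact Opens.mem_iSup.mpr ⟨i, hp, hi⟩
  · show N.presheaf.map (homOfLE (inf_le_left : U ⊓ W i ≤ U)).op ((homOf F N s).app U m) =
      N.presheaf.map (homOfLE (inf_le_left : U ⊓ W i ≤ U)).op (α.app U m)
    rw [← app_natural, ← app_natural, homOf_app, ← hh i (U ⊓ W i) inf_le_right]
    congr 1
    rw [← hs i, ← CategoryTheory.comp_apply, ← Functor.map_comp]
    rfl

/-- Global sections of the internal Hom are homomorphisms. -/
def homEquiv : Γ((hF F).obj N, ⊤) ≃+ (F ⟶ N) :=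
  AddEquiv.ofBijective (AddMonoidHom.mk' (homOf F N) (homOf_add F N))
    ⟨homOf_injective F N, homOf_surjective F N⟩

end Groth.Agent.DerTanLib
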