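import Groth.Agent.DerTanLib.Coord

/-! Morphisms out of `X ×_k Spec C` extending a morphism out of `X`: given by their maps on functions. -/

set_option autoImplicit false
set_option backward.isDefEq.respectTransparency false
set_option backward.isDefEq.respectTransparency.types false
set_option linter.style.haveILetI false

universe u

open CategoryTheory CategoryTheory.Limits AlgebraicGeometry ArtFun ArtFun.Art TopologicalSpace Opposite

noncomputable section

namespace Groth.Agent.DerTanLib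

open LocHilbGlueLib

variable {k : Type u} [Field k] {X : Scheme.{u}} (x : X ⟶ specPt k) (C : Art k k)

instance surjective_XAincl : Surjective (XAincl x C) := by
  haveI : Surjective (specRes C) := ⟨fun z => ⟨IsLocalRing.closedPoint k, @Subsingleton.elim _
    (inferInstanceAs (Subsingleton (PrimeSpectrum C))) _ _⟩⟩
  exact MorphismProperty.of_isPullback (isPullback_XAincl x C).flip inferInstance

theorem fst_XAincl_apply (w : X) : pullback.fst x (specOver C) (XAincl x C w) = w := by
  rw [← Scheme.Hom.comp_apply, XAincl_fst]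
  rfl

variable {Y : Scheme.{u}} (f : X ⟶ Y) (φ : XA x C ⟶ Y) (hφ : XAincl x C ≫ φ = f)

include hφ in
theorem base_eq (z : XA x C) : φ z = f (pullback.fst x (specOver C) z) := by
  obtain ⟨w, rfl⟩ := (XAincl x C).surjective z
  rw [fst_XAincl_apply, ← hφ, Scheme.Hom.comp_apply]

include hφ in
theorem preimage_eq (W : Y.Opens) : φ ⁻¹ᵁ W = UA x C (f ⁻¹ᵁ W) := by
  ext z
  show φ z ∈ W ↔ f (pullback.fst x (specOver C) z) ∈ W
  rw [base_eq x C f φ hφ]

/-- The map on functions. -/
def sect (W : Y.Opens) : Γ(Y, W) ⟶ Γ(XA x C, UA x C (f ⁻¹ᵁ W)) :=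
  φ.appLE W _ (preimage_eq x C f φ hφ W).ge

theorem sect_res {W W' : Y.Opens} (h : W' ≤ W) (b : Γ(Y, W)) :
    (XA x C).presheaf.map (homOfLE (UA_mono x C (f.preimage_mono h))).op (sect x C f φ hφ W b) =
      sect x C f φ hφ W' (Y.presheaf.map (homOfLE h).op b) := by
  have e : sect x C f φ hφ W ≫ (XA x C).presheaf.map (homOfLE (UA_mono x C (f.preimage_mono h))).op =
      Y.presheaf.map (homOfLE h).op ≫ sect x C f φ hφ W' := by
    simp [sect, Scheme.Hom.appLE_map, Scheme.Hom.map_appLE]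
  exact congrArg (fun g : Γ(Y, W) ⟶ Γ(XA x C, UA x C (f ⁻¹ᵁ W')) => g b) e

theorem sect_congr (ψ : XA x C ⟶ Y) (e : ψ = φ) (hψ : XAincl x C ≫ ψ = f) (W : Y.Opens) :
    sect x C f ψ hψ W = sect x C f φ hφ W := by subst e; rfl

include hφ in
theorem hom_ext_sect {ψ : XA x C ⟶ Y} (hψ : XAincl x C ≫ ψ = f)
    (h : ∀ W, sect x C f φ hφ W = sect x C f ψ hψ W) : φ = ψ := by
  refine Scheme.Hom.ext (ConcreteCategory.hom_ext _ _ fun z => ?_) fun W => ?_
  · show φ z = ψ z
    rw [base_eq x C f φ hφ, base_eq x C f ψ hψ]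
  · have hle : ψ ⁻¹ᵁ W ≤ UA x C (f ⁻¹ᵁ W) := (preimage_eq x C f ψ hψ W).le
    have e := congrArg (· ≫ (XA x C).presheaf.map (homOfLE hle).op) (h W)
    simp only [sect, Scheme.Hom.appLE_map] at e
    rw [Scheme.Hom.app_eq_appLE, Scheme.Hom.app_eq_appLE, Scheme.Hom.appLE_map]
    exact e

variable [Module.Finite k C]

theorem coef_res_sect (W : Y.Opens) (b : Γ(Y, W)) :
    coef x C C.res.toLinearMap (f ⁻¹ᵁ W) (sect x C f φ hφ W b) = f.app W b := by
  have h : f ⁻¹ᵁ W ≤ XAincl x C ⁻¹ᵁ UA x C (f ⁻¹ᵁ W) := fun w hw => by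
    show pullback.fst x (specOver C) (XAincl x C w) ∈ f ⁻¹ᵁ W
    rwa [fst_XAincl_apply]
  rw [← coef_res_eq x C (f ⁻¹ᵁ W) h]
  have e : sect x C f φ hφ W ≫ (XAincl x C).appLE _ _ h = f.app W := by
    rw [sect, Scheme.Hom.appLE_comp_appLE, Scheme.Hom.app_eq_appLE]
    simp only [hφ]
  exact congrArg (fun g : Γ(Y, W) ⟶ Γ(X, f ⁻¹ᵁ W) => g b) e

variable (c : ∀ W : Y.Opens, Γ(Y, W) →+* Γ(XA x C, UA x C (f ⁻¹ᵁ W)))
  (hres : ∀ {W W' : Y.Opens} (h : W' ≤ W) (b : Γ(Y, W)),
    (XA x C).presheaf.map (homOfLE (UA_mono x C (f.preimage_mono h))).op (c W b) =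
      c W' (Y.presheaf.map (homOfLE h).op b))
  (hlift : ∀ (W : Y.Opens) (b : Γ(Y, W)), coef x C C.res.toLinearMap (f ⁻¹ᵁ W) (c W b) = f.app W b)

/-- The morphism of presheafed spaces with the given map on functions. -/
def pshOf : (XA x C).toPresheafedSpace ⟶ Y.toPresheafedSpace where
  base := (pullback.fst x (specOver C) ≫ f).toPshHom.base
  c :=
    { app := fun W => CommRingCat.ofHom (c W.unop)
      naturality := fun W W' i => CommRingCat.hom_ext (RingHom.ext fun b => (hres i.unop.le b).symm) }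

include hlift in
theorem comp_pshOf : (XAincl x C).toPshHom ≫ pshOf x C f c hres = f.toPshHom := by
  have hb : ((XAincl x C).toPshHom ≫ pshOf x C f c hres).base = f.toPshHom.base :=
    ConcreteCategory.hom_ext _ _ fun w => congrArg f (fst_XAincl_apply x C w)
  refine PresheafedSpace.ext _ _ hb (NatTrans.ext (funext fun W => CommRingCat.hom_ext (RingHom.ext fun b => ?_)))
  have h : f ⁻¹ᵁ W.unop ≤ XAincl x C ⁻¹ᵁ UA x C (f ⁻¹ᵁ W.unop) := fun w hw => by
    show pullback.fst x (specOver C) (XAincl x C w) ∈ f ⁻¹ᵁ W.unop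
    rwa [fst_XAincl_apply]
  refine Eq.trans ?_ ((coef_res_eq x C (f ⁻¹ᵁ W.unop) h (c W.unop b)).trans (hlift W.unop b))
  show (X.presheaf.map _).hom ((XAincl x C).app _ (c W.unop b)) = ((XAincl x C).app _ ≫ X.presheaf.map _).hom (c W.unop b)
  exact congrArg (fun t => (X.presheaf.map t).hom ((XAincl x C).app _ (c W.unop b))) (Subsingleton.elim _ _)

omit [Module.Finite k C] in
theorem isLocalHom_eqToHom {A B : CommRingCat.{u}} (e : A = B) : IsLocalHom (eqToHom e).hom := by
  subst e
  exact ⟨fun _ ha => ha⟩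

/-- The morphism with the given map on functions. -/
def mkHom : XA x C ⟶ Y := Scheme.Hom.mk
  { toHom := pshOf x C f c hres
    prop := fun z => by
      obtain ⟨w, rfl⟩ := (XAincl x C).surjective z
      have e1 := PresheafedSpace.stalkMap.comp (XAincl x C).toPshHom (pshOf x C f c hres) w
      have e2 := PresheafedSpace.stalkMap.congr_hom _ _ (comp_pshOf x C f c hres hlift) w
      rw [e1] at e2
      haveI : IsLocalHom (f.toPshHom.stalkMap w).hom := f.toLRSHom.prop w
      haveI : IsLocalHom ((pshOf x C f c hres).stalkMap ((XAincl x C).toPshHom.base w) ≫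
          (XAincl x C).toPshHom.stalkMap w).hom := by
        rw [e2]
        exact @RingHom.isLocalHom_comp _ _ _ _ _ _ _ _ ‹_› (isLocalHom_eqToHom _)
      rw [CommRingCat.hom_comp] at this
      exact isLocalHom_of_comp _ ((XAincl x C).toPshHom.stalkMap w).hom }

theorem XAincl_mkHom : XAincl x C ≫ mkHom x C f c hres hlift = f :=
  Scheme.Hom.ext' (LocallyRingedSpace.Hom.ext' (comp_pshOf x C f c hres hlift))

theorem sect_mkHom (W : Y.Opens) :
    (sect x C f (mkHom x C f c hres hlift) (XAincl_mkHom x C f c hres hlift) W).hom = c W := by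
  refine RingHom.ext fun b => ?_
  show (XA x C).presheaf.map _ (c W b) = c W b
  rw [Subsingleton.elim (homOfLE _).op (𝟙 (op (UA x C (f ⁻¹ᵁ W)))), CategoryTheory.Functor.map_id]
  rfl

end Groth.Agent.DerTanLib
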